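import Mathlib
import Cfsg.Agent.Base
import Cfsg.Agent.Lib.ABG.B.Defs2
import Cfsg.Agent.Lib.ABG.B.B0
import Cfsg.Agent.Lib.ABG.B.Bar
import Cfsg.Agent.Lib.ABG.B.QF1c

/-! # ABG, package QF1: the statements are proved in `QF1c` -/
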